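import Groth.Agent.DCohMore.ExTri
import Groth.Agent.DCohMore.HocolimPC
import Groth.Agent.SiteCmpLib.Adj
import Groth.Agent.SiteCmpLib.Unbounded
import Groth.Agent.SpSeqLib.Acyclic

/-!
# Derived direct images and coproducts
-/

set_option autoImplicit false
set_option linter.style.haveILetI false
set_option linter.unusedVariables false
set_option backward.isDefEq.respectTransparency false
set_option backward.isDefEq.respectTransparency.types false
set_option maxHeartbeats 1000000
universe w v u

open CategoryTheory CategoryTheory.Limits Opposite DerivedCategory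
attribute [local instance] HasDerivedCategory.standard

noncomputable section

namespace Groth.Agent.CoprodPush

section Gen

variable {A : Type u} [Category.{v} A] [Abelian A] [IsGrothendieckAbelian.{v} A]

/-- Derived categories of Grothendieck categories have small coproducts. -/
theorem hasCoproduct_D {ι : Type v} (M : ι → DerivedCategory A) : HasCoproduct M := by
  let F := fun i => DerivedCategory.Q.objPreimage (M i)
  obtain ⟨hQ⟩ := DCohMore.nonempty_isColimit_Q_gen M (coproductIsCoproduct F)
    fun i => (DerivedCategory.Q.objObjPreimageIso (M i)).symm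
  exact ⟨⟨⟨_, hQ⟩⟩⟩

/-- Homology commutes with small coproducts. -/
theorem preservesColimit_homology {ι : Type v} (M : ι → DerivedCategory A) (i : ℤ) :
    PreservesColimit (Discrete.functor M) (homologyFunctor A i) := by
  let F := fun n => DerivedCategory.Q.objPreimage (M n)
  let eM := fun n => (DerivedCategory.Q.objObjPreimageIso (M n)).symm
  let c₀ : Cofan F := Cofan.mk (∐ F) (Sigma.ι F)
  haveI : HasExactColimitsOfShape (Discrete ι) A := inferInstance
  obtain ⟨hQ⟩ := DCohMore.nonempty_isColimit_Q_gen M (coproductIsCoproduct F : IsColimit c₀) eM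
  obtain ⟨hH⟩ := DCohMore.nonempty_isColimit_homology (coproductIsCoproduct F : IsColimit c₀) i
  let H := homologyFunctor A i
  let a := fun n => H.mapIso (eM n) ≪≫ (homologyFunctorFactors A i).app (F n)
  refine preservesColimit_of_preserves_colimit_cocone hQ
    ((isColimitMapCoconeCofanMkEquiv H _ _).symm ?_)
  refine IsColimit.ofIsoColimit ((IsColimit.precomposeHomEquiv (Discrete.natIso fun n => a n.as) _).symm hH)
    (Cocone.ext ((homologyFunctorFactors A i).app c₀.pt).symm fun n => ?_)
  obtain ⟨n⟩ := n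
  show ((a n).hom ≫ HomologicalComplex.homologyMap (c₀.inj n) i) ≫
    ((homologyFunctorFactors A i).app c₀.pt).inv = H.map ((eM n).hom ≫ DerivedCategory.Q.map (c₀.inj n))
  have hn := (homologyFunctorFactors A i).hom.naturality (c₀.inj n)
  simp only [a, Iso.trans_hom, Functor.mapIso_hom, Iso.app_hom, Category.assoc, Functor.map_comp]
  erw [← reassoc_of% hn]
  simp [H]

/-- Maps of families inducing isomorphisms on homology induce such a map of coproducts. -/
theorem isIso_homology_sigmaMap {ι : Type v} {M N : ι → DerivedCategory A} [HasCoproduct M] [HasCoproduct N]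
    (f : ∀ a, M a ⟶ N a) (i : ℤ) (hf : ∀ a, IsIso ((homologyFunctor A i).map (f a))) :
    IsIso ((homologyFunctor A i).map (Limits.Sigma.map f)) := by
  haveI := preservesColimit_homology M i
  haveI := preservesColimit_homology N i
  let H := homologyFunctor A i
  have h : sigmaComparison H M ≫ H.map (Limits.Sigma.map f) =
      Limits.Sigma.map (fun a => H.map (f a)) ≫ sigmaComparison H N := Sigma.hom_ext _ _ fun a => by
    rw [ι_comp_sigmaComparison_assoc, Sigma.ι_map_assoc, ι_comp_sigmaComparison, ← H.map_comp, Sigma.ι_map,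
      H.map_comp]
  haveI : IsIso (Limits.Sigma.map fun a => H.map (f a)) := by
    haveI : ∀ a, IsIso (H.map (f a)) := hf
    exact ⟨Limits.Sigma.map fun a => inv (H.map (f a)), Sigma.hom_ext _ _ fun a => by simp,
      Sigma.hom_ext _ _ fun a => by simp⟩
  haveI : IsIso (sigmaComparison H M ≫ H.map (Limits.Sigma.map f)) := by rw [h]; infer_instance
  exact IsIso.of_isIso_comp_left (sigmaComparison H M) _

/-- Coproducts keep vanishing in low degrees. -/
theorem isGE_sigma {ι : Type v} (M : ι → DerivedCategory A) [HasCoproduct M] (n : ℤ) (h : ∀ a, (M a).IsGE n) :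
    (∐ M).IsGE n := by
  refine (DerivedCategory.isGE_iff _ _).2 fun q hq => ?_
  haveI := preservesColimit_homology M q
  refine IsZero.of_iso ?_ (PreservesCoproduct.iso (homologyFunctor A q) M)
  refine (IsZero.iff_id_eq_zero _).2 (Sigma.hom_ext _ _ fun a => ?_)
  exact ((DerivedCategory.isGE_iff _ _).1 (h a) q hq).eq_of_src _ _

end Gen

variable {C : Type u} [SmallCategory C] {J : GrothendieckTopology C} {O_C : Sheaf J CommRingCat.{u}}
  {D : Type u} [SmallCategory D] {K : GrothendieckTopology D} {O_D : Sheaf K CommRingCat.{u}}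
  (f : ModSite.RMor O_C O_D) [SiteCmp.HasRpushD f] [HasInjectiveResolutions (ModSite.Mod O_C)]
  [PreservesFiniteLimits f.push]

/-- Bounded below complexes of acyclic modules compute derived direct images. -/
theorem isIso_rpushUnit_app_bdd (G : CochainComplex (ModSite.Mod O_C) ℤ) (a : ℤ)
    [G.IsStrictlyGE a] (hac : ∀ n, SpSeqLib.IsAcyclicFor f.push (G.X n)) :
    IsIso ((SiteCmpLib.rpushUnit f).app ((HomotopyCategory.quotient (ModSite.Mod O_C) (ComplexShape.up ℤ)).obj G)) := by
  haveI : IsGrothendieckAbelian.{u} (ModSite.Mod O_C) := ModTensor.isGrothendieckAbelian_mod O_C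
  let q := HomotopyCategory.quotient (ModSite.Mod O_C) (ComplexShape.up ℤ)
  obtain ⟨L, i, hi, hL, hLa⟩ := CochainComplex.Plus.modelCategoryQuillen.exists_quasiIso_injective G a
  haveI := hi
  haveI := hLa
  haveI : ∀ n, Injective (L.X n) := hL
  haveI := CochainComplex.isKInjective_of_injective L a
  haveI h1 : QuasiIso ((f.push.mapHomologicalComplex (ComplexShape.up ℤ)).map i) :=
    SpSeqLib.quasiIso_map _ i a hac fun n => SpSeqLib.isAcyclicFor_of_injective _ _
  have h2 : IsIso ((SiteCmp.pushKh f).map (q.map i)) := by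
    show IsIso (DerivedCategory.Qh.map ((f.push.mapHomotopyCategory _).map (q.map i)))
    rw [DerivedCategory.isIso_Qh_map_iff]
    exact (HomotopyCategory.quotient_map_mem_quasiIso_iff ((f.push.mapHomologicalComplex _).map i)).2 h1
  have h3 := SiteCmpLib.isIso_rpushUnit_app f L
  have h4 : IsIso ((DerivedCategory.Qh ⋙ SiteCmp.RpushD f).map (q.map i)) := by
    haveI : IsIso (DerivedCategory.Qh.map (q.map i)) := by
      rw [DerivedCategory.isIso_Qh_map_iff]
      exact (HomotopyCategory.quotient_map_mem_quasiIso_iff i).2 hi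
    exact @Functor.map_isIso _ _ _ _ _ _ (SiteCmp.RpushD f) _ ‹_›
  have nat := (SiteCmpLib.rpushUnit f).naturality (q.map i)
  haveI : IsIso ((SiteCmpLib.rpushUnit f).app (q.obj G) ≫ (DerivedCategory.Qh ⋙ SiteCmp.RpushD f).map (q.map i)) := by
    rw [← nat]
    exact @IsIso.comp_isIso _ _ _ _ _ _ _ h2 h3
  exact @IsIso.of_isIso_comp_right _ _ _ _ _ _ _ h4 this

/-- The comparison of direct images of complexes with derived direct images. -/
def cmp : f.push.mapHomologicalComplex (ComplexShape.up ℤ) ⋙ DerivedCategory.Q ⟶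
    DerivedCategory.Q ⋙ SiteCmp.RpushD f where
  app G := (DerivedCategory.quotientCompQhIso (ModSite.Mod O_D)).inv.app _ ≫
    (SiteCmpLib.rpushUnit f).app ((HomotopyCategory.quotient (ModSite.Mod O_C) (ComplexShape.up ℤ)).obj G) ≫
      (SiteCmp.RpushD f).map ((DerivedCategory.quotientCompQhIso (ModSite.Mod O_C)).hom.app G)
  naturality G G' g := by
    let q := HomotopyCategory.quotient (ModSite.Mod O_C) (ComplexShape.up ℤ)
    let Φ := SiteCmp.RpushD f
    have h1 := (DerivedCategory.quotientCompQhIso (ModSite.Mod O_D)).inv.naturality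
      ((f.push.mapHomologicalComplex (ComplexShape.up ℤ)).map g)
    have h2 := (SiteCmpLib.rpushUnit f).naturality (q.map g)
    have h3 := congrArg Φ.map ((DerivedCategory.quotientCompQhIso (ModSite.Mod O_C)).hom.naturality g)
    rw [Φ.map_comp, Φ.map_comp] at h3
    refine (Category.assoc _ _ _).symm.trans ((congrArg (· ≫ _) h1).trans ((Category.assoc _ _ _).trans ?_))
    refine Eq.trans ?_ ((congrArg (_ ≫ ·) (Category.assoc _ _ _)).symm.trans (Category.assoc _ _ _).symm)
    refine congrArg (_ ≫ ·) ((Category.assoc _ _ _).symm.trans ((congrArg (· ≫ _) h2).trans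
      ((Category.assoc _ _ _).trans (congrArg (_ ≫ ·) h3))))

theorem isIso_cmp_app (G : CochainComplex (ModSite.Mod O_C) ℤ) (a : ℤ) [G.IsStrictlyGE a]
    (hac : ∀ n, SpSeqLib.IsAcyclicFor f.push (G.X n)) : IsIso ((cmp f).app G) := by
  haveI := isIso_rpushUnit_app_bdd f G a hac
  show IsIso (_ ≫ _ ≫ _)
  infer_instance

/-- Derived direct image commutes with coproducts of uniformly bounded below families. -/
theorem preservesColimit_bdd [∀ T : Type u, PreservesColimitsOfShape (Discrete T) f.push]
    (hsum : ∀ (T : Type u) (I : T → ModSite.Mod O_C), (∀ t, Injective (I t)) → SpSeqLib.IsAcyclicFor f.push (∐ I))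
    {ι : Type u} (M : ι → DerivedCategory (ModSite.Mod O_C)) (a : ℤ) (hM : ∀ t, (M t).IsGE a) :
    PreservesColimit (Discrete.functor M) (SiteCmp.RpushD f) := by
  classical
  haveI : IsGrothendieckAbelian.{u} (ModSite.Mod O_C) := ModTensor.isGrothendieckAbelian_mod O_C
  haveI : IsGrothendieckAbelian.{u} (ModSite.Mod O_D) := ModTensor.isGrothendieckAbelian_mod O_D
  choose L hL eL using fun t => @DerivedCategory.exists_iso_Q_obj_of_isGE _ _ _ _ (M t) a (hM t)
  haveI := hL
  choose N φ hφ hN hNa using fun t => CochainComplex.Plus.modelCategoryQuillen.exists_quasiIso_injective (L t) a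
  haveI := hφ
  haveI := hNa
  let eM : ∀ t, M t ≅ DerivedCategory.Q.obj (N t) := fun t => (eL t).some ≪≫ asIso (DerivedCategory.Q.map (φ t))
  let P := f.push.mapHomologicalComplex (ComplexShape.up ℤ)
  let Φ := SiteCmp.RpushD f
  let c₀ : Cofan N := Cofan.mk (∐ N) (Sigma.ι N)
  have hc₀ : IsColimit c₀ := coproductIsCoproduct N
  haveI : (c₀.pt).IsStrictlyGE a := (CochainComplex.isStrictlyGE_iff _ _).2 fun k hk =>
    (IsZero.iff_id_eq_zero _).2 ((isColimitOfPreserves (HomologicalComplex.eval _ _ k) hc₀).hom_ext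
      fun ⟨t⟩ => ((CochainComplex.isStrictlyGE_iff _ _).1 (hNa t) k hk).eq_of_src _ _)
  have hac : ∀ k, SpSeqLib.IsAcyclicFor f.push (c₀.pt.X k) := fun k p =>
    ((hsum ι (fun t => (N t).X k) fun t => hN t k) p).of_iso ((f.push.rightDerived (p + 1)).mapIso
      ((PreservesCoproduct.iso (HomologicalComplex.eval _ (ComplexShape.up ℤ) k) N)))
  haveI := isIso_cmp_app f c₀.pt a hac
  haveI : ∀ t, IsIso ((cmp f).app (N t)) := fun t =>
    isIso_cmp_app f (N t) a fun k => haveI := hN t k; SpSeqLib.isAcyclicFor_of_injective _ _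
  haveI : PreservesColimitsOfShape (Discrete ι) P :=
    HomologicalComplex.preservesColimitsOfShape_of_eval _ fun k =>
      (inferInstance : PreservesColimitsOfShape (Discrete ι) (HomologicalComplex.eval _ (ComplexShape.up ℤ) k ⋙ f.push))
  have hPc : IsColimit (Cofan.mk (P.obj c₀.pt) fun t => P.map (c₀.inj t)) :=
    isColimitCofanMkObjOfIsColimit P _ _ hc₀
  let eP : ∀ t, Φ.obj (M t) ≅ DerivedCategory.Q.obj (P.obj (N t)) := fun t =>
    Φ.mapIso (eM t) ≪≫ (asIso ((cmp f).app (N t))).symm
  obtain ⟨hQ⟩ := DCohMore.nonempty_isColimit_Q_gen M hc₀ eM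
  obtain ⟨hQ'⟩ := DCohMore.nonempty_isColimit_Q_gen (fun t => Φ.obj (M t)) hPc eP
  refine preservesColimit_of_preserves_colimit_cocone hQ ((isColimitMapCoconeCofanMkEquiv Φ _ _).symm ?_)
  refine IsColimit.ofIsoColimit hQ' (Cofan.ext (asIso ((cmp f).app c₀.pt)) fun t => ?_)
  show ((eP t).hom ≫ DerivedCategory.Q.map (P.map (c₀.inj t))) ≫ (cmp f).app c₀.pt =
    Φ.map ((eM t).hom ≫ DerivedCategory.Q.map (c₀.inj t))
  have hn : DerivedCategory.Q.map (P.map (c₀.inj t)) ≫ (cmp f).app c₀.pt =
      (cmp f).app (N t) ≫ Φ.map (DerivedCategory.Q.map (c₀.inj t)) := (cmp f).naturality (c₀.inj t)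
  rw [Category.assoc, hn, Φ.map_comp]
  simp [eP]

/-- Derived direct image commutes with coproducts if truncation does not change its homology. -/
theorem preservesColimit_of_trunc [∀ T : Type u, PreservesColimitsOfShape (Discrete T) f.push]
    (hsum : ∀ (T : Type u) (I : T → ModSite.Mod O_C), (∀ t, Injective (I t)) → SpSeqLib.IsAcyclicFor f.push (∐ I))
    {ι : Type u} (M : ι → DerivedCategory (ModSite.Mod O_C)) (P : ObjectProperty (DerivedCategory (ModSite.Mod O_C)))
    (hP : ∀ t, P (M t)) (hPs : ∀ [HasCoproduct M], P (∐ M))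
    (htr : ∀ i : ℤ, ∃ n : ℕ, ∀ X, P X →
      IsIso ((homologyFunctor (ModSite.Mod O_D) i).map ((SiteCmp.RpushD f).map (CohCx.toTruncTower X n)))) :
    PreservesColimit (Discrete.functor M) (SiteCmp.RpushD f) := by
  haveI : IsGrothendieckAbelian.{u} (ModSite.Mod O_C) := ModTensor.isGrothendieckAbelian_mod O_C
  haveI : IsGrothendieckAbelian.{u} (ModSite.Mod O_D) := ModTensor.isGrothendieckAbelian_mod O_D
  let Φ := SiteCmp.RpushD f
  haveI := hasCoproduct_D M
  haveI := hasCoproduct_D fun t => Φ.obj (M t)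
  haveI : IsIso (sigmaComparison Φ M) := by
    rw [DerivedCategory.isIso_iff]
    intro i
    obtain ⟨n, hn⟩ := htr i
    let H := homologyFunctor (ModSite.Mod O_D) i
    let T := fun t => CohCx.truncTower (M t) n
    let τ := fun t => CohCx.toTruncTower (M t) n
    haveI := hasCoproduct_D T
    haveI := hasCoproduct_D fun t => Φ.obj (T t)
    have hT : ∀ t, (T t).IsGE (-(n : ℤ)) := fun t => SiteCmpLib.isGE_truncTower (M t) n
    haveI hg : (∐ T).IsGE (-(n : ℤ)) := isGE_sigma T _ hT
    haveI := preservesColimit_bdd f hsum T _ hT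
    haveI h1 : IsIso (H.map (Limits.Sigma.map fun t => Φ.map (τ t))) :=
      isIso_homology_sigmaMap _ i fun t => hn _ (hP t)
    let π : (∐ M) ⟶ ∐ T := Limits.Sigma.map τ
    have hπ : ∀ j : ℤ, -(n : ℤ) ≤ j → IsIso ((homologyFunctor (ModSite.Mod O_C) j).map π) := fun j hj =>
      isIso_homology_sigmaMap _ j fun t => DCohLib.isIso_homology_truncGEπ (M t) (-(n : ℤ)) j hj
    let σ : CohCx.truncTower (∐ M) n ⟶ CohCx.truncTower (∐ T) n :=
      (DerivedCategory.TStructure.t.truncGE (-(n : ℤ))).map π
    have hnat : π ≫ CohCx.toTruncTower (∐ T) n = CohCx.toTruncTower (∐ M) n ≫ σ :=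
      ((DerivedCategory.TStructure.t (C := ModSite.Mod O_C)).truncGEπ (-(n : ℤ))).naturality π
    haveI hT' : IsIso (CohCx.toTruncTower (∐ T) n) :=
      (DerivedCategory.TStructure.t (C := ModSite.Mod O_C)).isGE_iff_isIso_truncGEπ_app (-(n : ℤ)) (∐ T) |>.1 hg
    haveI : IsIso σ := by
      rw [DerivedCategory.isIso_iff]
      intro j
      by_cases hj : -(n : ℤ) ≤ j
      · haveI := hπ j hj
        haveI := DCohLib.isIso_homology_truncGEπ (∐ M) (-(n : ℤ)) j hj
        have e := congrArg (homologyFunctor (ModSite.Mod O_C) j).map hnat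
        rw [Functor.map_comp, Functor.map_comp] at e
        haveI : IsIso ((homologyFunctor (ModSite.Mod O_C) j).map (CohCx.toTruncTower (∐ M) n) ≫
            (homologyFunctor (ModSite.Mod O_C) j).map σ) := by rw [← e]; infer_instance
        exact IsIso.of_isIso_comp_left ((homologyFunctor (ModSite.Mod O_C) j).map (CohCx.toTruncTower (∐ M) n)) _
      · exact ⟨0, ((DerivedCategory.isGE_iff _ _).1 (SiteCmpLib.isGE_truncTower (∐ M) n) j (by omega)).eq_of_src _ _,
          ((DerivedCategory.isGE_iff _ _).1 (SiteCmpLib.isGE_truncTower (∐ T) n) j (by omega)).eq_of_src _ _⟩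
    haveI h2 : IsIso (H.map (Φ.map π)) := by
      haveI := hn _ hPs
      have e := congrArg (fun x => H.map (Φ.map x)) hnat
      simp only [Functor.map_comp] at e
      haveI : IsIso (H.map (Φ.map π) ≫ H.map (Φ.map (CohCx.toTruncTower (∐ T) n))) := by rw [e]; infer_instance
      exact IsIso.of_isIso_comp_right (H.map (Φ.map π)) (H.map (Φ.map (CohCx.toTruncTower (∐ T) n)))
    have hsq : sigmaComparison Φ M ≫ Φ.map π = Limits.Sigma.map (fun t => Φ.map (τ t)) ≫ sigmaComparison Φ T :=
      Sigma.hom_ext _ _ fun t => by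
        rw [ι_comp_sigmaComparison_assoc, Sigma.ι_map_assoc, ι_comp_sigmaComparison, ← Φ.map_comp, Sigma.ι_map,
          Φ.map_comp]
    have e := congrArg H.map hsq
    rw [Functor.map_comp, Functor.map_comp] at e
    haveI : IsIso (H.map (sigmaComparison Φ M) ≫ H.map (Φ.map π)) := by rw [e]; infer_instance
    exact IsIso.of_isIso_comp_right (H.map (sigmaComparison Φ M)) (H.map (Φ.map π))
  exact PreservesCoproduct.of_iso_comparison Φ M

end Groth.Agent.CoprodPush
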